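import Cfsg.Agent.Mrg.Omega.NOThreeL.RTools.Many.Final
import Cfsg.Agent.Mrg.Omega.NOThreeL.RSym
import Cfsg.Agent.Mrg.Omega.NOThreeL.AFour.NotFFPlug
import Cfsg.Agent.Mrg.Omega.FFBr.Final


/-!
# NO-3L, case (A) without `C_Z(P) = 1`: only natural `SL₂(q)^k`, `q > 2`, is left

`DataLow S` (`noff`, `low` only: box R included, and NO-3S), `PairA S P H` : `V_P` is a sum of natural `SL₂(F)`-modules modulo `C_{V_P}(O²(P))` with
`|F| > 2`.

* `V_P` not FF (image sense): `AFour.notFF` (helper456); type `S_{2^m+1}^k`: `RSym.no_sym` (helper797);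
  `|F| = 2` : `false_of_nat` (#18037).
-/

set_option autoImplicit false

namespace Cfsg.Agent.Omega.NOThreeL.RTools.Many

open Subgroup Cfsg Cfsg.Agent.ZN Cfsg.Agent.Omega.FrameNOFF
open Cfsg.Agent.Omega.MinPar Cfsg.Agent.Omega.FFThm Cfsg.Agent.Omega.Node.NO3L Cfsg.Agent.Omega.Frame
open Cfsg.Agent.Omega.NOThreeL.Basic Cfsg.Agent.Omega.NOThreeL.Main
open Cfsg.Agent.Omega.FrameFF (cv)

universe u

/-- Over a field with two elements. -/
theorem two_of_card {F : Type} [Field F] [Finite F] (h : Nat.card F = 2) (x : F) : x = 0 ∨ x = 1 := by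
  classical
  by_contra hx
  push Not at hx
  have h1 : ({0, 1, x} : Finset F).card = 3 := by
    rw [Finset.card_insert_of_notMem, Finset.card_insert_of_notMem, Finset.card_singleton]
    · simpa using hx.2.symm
    · simp only [Finset.mem_insert, Finset.mem_singleton, not_or]
      exact ⟨zero_ne_one, hx.1.symm⟩
  have := Fintype.ofFinite F
  have h2 := Finset.card_le_univ ({0, 1, x} : Finset F)
  rw [h1, ← Nat.card_eq_fintype_card, h] at h2
  omega

/-- **Case (A) of NO-3L, `C_Z(P)` arbitrary**: `V_P` is of type natural `SL₂(F)^k`, `|F| > 2`. -/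
theorem exists_nat_big {G : Type u} [Group G] [Finite G] (hG : Ctx G) {S : Sylow 2 G} (D : DataLow (S : Subgroup G))
    {P H : Subgroup G} (E : PairA (S : Subgroup G) P H) :
    ∃ (F : Type) (_ : Field F) (_ : Finite F) (_ : CharP F 2) (k : ℕ), 0 < k ∧ 2 < Nat.card F ∧
      Nonempty (NatKM F (S : Subgroup G) P (zl (S : Subgroup G) P) (cv (S : Subgroup G) P) k) := by
  by_cases hoff : ∃ A : Subgroup G, A ≤ P ∧ OffM (zl (S : Subgroup G) P) A
  · obtain ⟨-, hC⟩ := FFBr.ffthmM G (S : Subgroup G) P (syl_of_sylow S E.par.le) E.par.toIsMinPar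
      (E.par.isLoc.char2 S hG.char2) hoff
    rcases hC with ⟨F, _, _, _, k, hk, ⟨M⟩⟩ | ⟨k, m, hk, hm, ⟨M⟩⟩
    · have hq : 1 < Nat.card F := Finite.one_lt_card
      rcases Nat.lt_or_ge 2 (Nat.card F) with hq2 | hq2
      · exact ⟨F, _, inferInstance, inferInstance, k, hk, hq2, ⟨M⟩⟩
      · exact (false_of_nat hG.char2 D E (two_of_card (by omega)) M.toNatK inf_le_left).elim
    · exact (RSym.no_sym hG.char2 E hm M.toSymK).elim
  · push Not at hoff
    exact (E.ne (AFour.comm_of_notFF AFour.offAll hG.char2 D E.par hoff E.long)).elim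

end Cfsg.Agent.Omega.NOThreeL.RTools.Many
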