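import Cfsg.Agent.Mrg.Omega.NOThreeL.Basic
import Cfsg.Agent.Mrg.Omega.Node.NO3L


/-!
# NO-3L, box R, case (A), `q = 2`, all `k` (#18037, helper850): the frame hypotheses

`HypK S P H z n e w` : `P ∈ P*(S)`, `V = V_P = zl S P = N_1 × … × N_k × E`, `N_i = {1, z i, n i, z i * n i}`,
`E = C_Z(P)`, `Z = ⟨e⟩ E`, `e = z_1 ⋯ z_k`; `P` permutes the `N_i`, `S` permutes the `z i` transitively; `w ∈ P` swaps
`z i` and `n i`; `H` is long and minimal with `[V_P, U_H] ≠ 1`; `U = U_H = zl S H` acts on each `N_i`.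

`PPk H z` : the points `z_i^H`; `Uk H z = U₁ = ⟨z_i^H⟩`.
-/

set_option autoImplicit false

namespace Cfsg.Agent.Omega.NOThreeL.RTools.Many

open Subgroup Cfsg Cfsg.Agent.ZN Cfsg.Agent.Omega.MinPar
open Cfsg.Agent.Omega.FrameNOFF Cfsg.Agent.Omega.Node.NO3L Cfsg.Agent.Omega.NOThreeL.Basic
open scoped Pointwise

universe u

variable {G : Type u} [Group G]

/-- `N_i - {1}` -/
def Nn {k : ℕ} (z n : Fin k → G) (i : Fin k) : Set G := {x | x = z i ∨ x = n i ∨ x = z i * n i}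

/-- The frame hypotheses of `R ∩ (A)`, `q = 2`. -/
structure HypK [Finite G] (S : Sylow 2 G) (P H : Subgroup G) {k : ℕ} (z n : Fin k → G) (e w : G) : Prop where
  hc : IsCharacteristicTwoType G
  data : DataLow (S : Subgroup G)
  par : IsParS (S : Subgroup G) P
  long : IsLong (S : Subgroup G) H
  ne : ¬ zl (S : Subgroup G) P ≤ centralizer (zl (S : Subgroup G) H : Set G)
  min : ∀ H₁ : Subgroup G, IsLong (S : Subgroup G) H₁ → H₁ ≤ H → H₁ ≠ H →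
    zl (S : Subgroup G) P ≤ centralizer (zl (S : Subgroup G) H₁ : Set G)
  zV : ∀ i, z i ∈ zl (S : Subgroup G) P
  nV : ∀ i, n i ∈ zl (S : Subgroup G) P
  /-- `N_i` has order 4 and `N_i ∩ N_j = 1` -/
  z1 : ∀ i, z i ≠ 1
  nz : ∀ i, n i ≠ z i
  disj : ∀ i j x, x ∈ Nn z n i → x ∈ Nn z n j → i = j
  /-- `V = V₀ E` -/
  cov : ∀ v ∈ zl (S : Subgroup G) P, ∃ x ∈ closure (Set.range z ∪ Set.range n),
    ∃ ε ∈ zc (S : Subgroup G) ⊓ centralizer (P : Set G), v = x * ε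
  /-- `e = z_1 ⋯ z_k`, `Z = ⟨e⟩ E` -/
  eprod : e = (List.ofFn z).prod
  eZ : e ∈ zc (S : Subgroup G)
  Zor : ∀ x ∈ zc (S : Subgroup G), x ∈ centralizer (P : Set G) ∨ e * x ∈ centralizer (P : Set G)
  /-- `P` permutes the `N_i` -/
  perm : ∀ p ∈ P, ∃ σ : Equiv.Perm (Fin k), ∀ i, ∀ x ∈ Nn z n i, p * x * p⁻¹ ∈ Nn z n (σ i)
  /-- `S` permutes the `z_i`, transitively -/
  Sz : ∀ s ∈ (S : Subgroup G), ∀ i, ∃ j, s * z i * s⁻¹ = z j
  Str : ∀ i j, ∃ s ∈ (S : Subgroup G), s * z i * s⁻¹ = z j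
  /-- `C_P(Z) = C_P(e)` is the stabiliser of `{z_1, …, z_k}` -/
  Cz : ∀ p ∈ P, p ∈ CZ (S : Subgroup G) ↔ ∀ i, ∃ j, p * z i * p⁻¹ = z j
  /-- `U` normalises the `N_i` -/
  Un : ∀ u ∈ zl (S : Subgroup G) H, ∀ i, u * n i * u⁻¹ = n i ∨ u * n i * u⁻¹ = z i * n i
  Uz : ∀ u ∈ zl (S : Subgroup G) H, ∀ i, u * z i = z i * u
  w_mem : w ∈ P
  wz : ∀ i, w * z i * w⁻¹ = n i
  wn : ∀ i, w * n i * w⁻¹ = z i

/-- The points `z_i^H`. -/
def PPk {k : ℕ} (H : Subgroup G) (z : Fin k → G) : Set G := {x | ∃ i, ∃ h ∈ H, x = h * z i * h⁻¹}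

/-- `U₁ = ⟨z_i^H⟩`. -/
def Uk {k : ℕ} (H : Subgroup G) (z : Fin k → G) : Subgroup G := closure (PPk H z)

end Cfsg.Agent.Omega.NOThreeL.RTools.Many
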