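import Cfsg.Agent.Mrg.Omega.NOThreeL.AOne
import Cfsg.Agent.Mrg.Omega.NOThreeL.RTools.Many.Hyp


/-!
# NO-3L, R ∩ (A), `q = 2`, all `k` (#18037, helper850): the natural modules give `HypK`

`CrdK F S P D k e` : coordinates of `V_P / D` (`k` natural modules for `SL₂(2)`).

* `CrdK.exists_exa` : the exact elements `z i`, `n i` of `V_P`;
* `CrdK.exists_hypK` : `HypK`.
-/

set_option autoImplicit false
set_option linter.unusedSectionVars false

namespace Cfsg.Agent.Omega.NOThreeL.RTools.Many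

open Subgroup Cfsg Cfsg.Agent.ZN Cfsg.Agent.Omega.MinPar Cfsg.Agent.Omega.Frame Cfsg.Agent.Omega.FrameNOFF
open Cfsg.Agent.Omega.Node.NO3L Cfsg.Agent.Omega.NOThreeL.Basic Cfsg.Agent.Omega.NOThreeL.RTransv
open Cfsg.Agent.Omega.NoFF.Basic (V conj_conj mem_conj conj_le_iff conj_le_centralizer comm_symm comm_mono
  Z_le_V V_le conj_V_mul)
open Cfsg.Agent.Omega.NOThreeL.Pair (conj_eq_of_mem conj_le_normalizer zl_abel)
open Cfsg.Agent.Omega.NOThreeL.RAOne (ap_up' ap_lo')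
open Cfsg.Agent.Omega.FFThm (Off NoOver Concl NatK SymK ActsSL)
open Cfsg.Agent.Omega.NatPair (ap ap_mul ap_one ap_inv_ap)
open Cfsg.Agent.Lib.SL2Mat (up lo exists_up_lo up_zero up_mul lo_mul lo_zero)
open Cfsg.Agent.MinSimple.VModule (zl_le le_normalizer_zl zc_le_zl zc_le mem_zc
  normalizer_le_normalizer_zc)
open scoped Pointwise

universe u

variable {G : Type u} [Group G] {k : ℕ}

section act

variable {F : Type} [Field F] {e : G → Fin k → Fin 2 → F}

/-- `g` acts as `A ∈ SL₂(F)^k` on the coordinates of `V`. -/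
def ActK (e : G → Fin k → Fin 2 → F) (V : Subgroup G) (g : G)
    (A : Fin k → Matrix.SpecialLinearGroup (Fin 2) F) : Prop :=
  ∀ v ∈ V, ∀ i, e (g * v * g⁻¹) i = ap (A i) (e v i)

theorem ActK.mul {V : Subgroup G} {g h : G} {A B : Fin k → Matrix.SpecialLinearGroup (Fin 2) F}
    (hg : ActK e V g A) (hh : ActK e V h B) (hn : h ∈ normalizer (V : Set G)) : ActK e V (g * h) (A * B) := by
  intro v hv i
  have h1 : g * h * v * (g * h)⁻¹ = g * (h * v * h⁻¹) * g⁻¹ := by group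
  rw [h1, hg _ ((mem_normalizer_iff.1 hn v).1 hv), hh v hv, ← ap_mul]
  rfl

theorem ActK.one {V : Subgroup G} : ActK e V 1 (1 : Fin k → Matrix.SpecialLinearGroup (Fin 2) F) := by
  intro v hv i
  rw [one_mul, inv_one, mul_one]
  exact (ap_one _).symm

theorem ActK.inv {V : Subgroup G} {g : G} {A : Fin k → Matrix.SpecialLinearGroup (Fin 2) F}
    (hg : ActK e V g A) (hn : g ∈ normalizer (V : Set G)) : ActK e V g⁻¹ A⁻¹ := by
  intro v hv i
  have h1 : g⁻¹ * v * g⁻¹⁻¹ ∈ V := (mem_normalizer_iff.1 (inv_mem hn) v).1 hv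
  have h2 := hg _ h1 i
  have h3 : g * (g⁻¹ * v * g⁻¹⁻¹) * g⁻¹ = v := by group
  rw [h3] at h2
  rw [h2]
  exact (ap_inv_ap _ _).symm

/-- the transposition `z ↔ n` of `SL₂(2)` -/
def sw (F : Type) [Field F] : Matrix.SpecialLinearGroup (Fin 2) F := up 1 * lo 1 * up 1

theorem up_sq [CharP F 2] : up (1 : F) * up 1 = 1 := by
  rw [up_mul, CharTwo.add_self_eq_zero, up_zero]

theorem lo_sq [CharP F 2] : lo (1 : F) * lo 1 = 1 := by
  rw [lo_mul, CharTwo.add_self_eq_zero, lo_zero]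

theorem sw_sq [CharP F 2] : sw F * sw F = 1 := by
  have e1 : sw F * sw F = up 1 * lo 1 * (up 1 * up 1) * lo 1 * up 1 := by rw [sw]; group
  rw [e1, up_sq, mul_one, mul_assoc (up (1 : F)), lo_sq, mul_one, up_sq]

theorem lo_eq [CharP F 2] : lo (1 : F) = up 1 * sw F * up 1 := by
  have e1 : up 1 * sw F * up 1 = (up 1 * up 1) * lo 1 * (up 1 * up 1) := by rw [sw]; group
  rw [e1, up_sq, one_mul, mul_one]

theorem ap_sw_z [CharP F 2] : ap (sw F) ![1, 0] = ![0, 1] := by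
  rw [sw, ap_mul, ap_mul, ap_up', ap_lo', ap_up']
  funext i
  fin_cases i
  · simp [CharTwo.add_self_eq_zero]
  · simp

theorem ap_zero (A : Matrix.SpecialLinearGroup (Fin 2) F) : ap A 0 = 0 := by
  rw [NatPair.ap_eq_mulVec, Matrix.mulVec_zero]

end act

/-- Coordinates of `V_P / D` over a field `F` with two elements. -/
structure CrdK (F : Type) [Field F] (S P D : Subgroup G) (k : ℕ) (e : G → Fin k → Fin 2 → F) : Prop where
  two : ∀ x : F, x = 0 ∨ x = 1
  mul : ∀ v ∈ zl S P, ∀ w ∈ zl S P, e (v * w) = e v + e w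
  surj : ∀ x : Fin k → Fin 2 → F, ∃ v ∈ zl S P, e v = x
  ker : ∀ v ∈ zl S P, e v = 0 ↔ v ∈ D
  DV : D ≤ zl S P
  PD : P ≤ normalizer (D : Set G)
  lift : ∀ A, ∃ g ∈ P, ActK e (zl S P) g A ∧ g ∈ centralizer (D : Set G)
  norm : ∀ g ∈ P, ∀ h ∈ P, ∀ A, ActK e (zl S P) h A → ∃ B, ActK e (zl S P) (g * h * g⁻¹) B
  perm : ∀ g ∈ P, ∃ σ : Equiv.Perm (Fin k), ∀ v ∈ zl S P, ∀ i, e (g * v * g⁻¹) (σ i) = 0 ↔ e v i = 0
  trans : ∀ i j, ∃ s ∈ S, ∀ v ∈ zl S P, e (s * v * s⁻¹) j = 0 ↔ e v i = 0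
  line : ∀ s ∈ S, ∃ σ : Equiv.Perm (Fin k), ∀ v ∈ zl S P, ∀ i, e (s * v * s⁻¹) (σ i) 1 = 0 ↔ e v i 1 = 0
  gen : ∀ K : Subgroup G, S ≤ K →
    (∀ h ∈ P, h ∈ centralizer (D : Set G) → ∀ A, ActK e (zl S P) h A → h ∈ K) → P ≤ K
  unip : ∀ i, ∃ t ∈ S, ActK e (zl S P) t (Pi.mulSingle i (up 1)) ∧ t ∈ centralizer (D : Set G)

/-- The elements of `P` inducing elements of `SL₂(2)^k`. -/
structure IsL {F : Type} [Field F] (S P D : Subgroup G) (e : G → Fin k → Fin 2 → F) (g : G)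
    (A : Fin k → Matrix.SpecialLinearGroup (Fin 2) F) : Prop where
  mem : g ∈ P
  cen : g ∈ centralizer (D : Set G)
  act : ActK e (zl S P) g A

/-- The exact elements. -/
structure Exa {F : Type} [Field F] (S P D : Subgroup G) (e : G → Fin k → Fin 2 → F)
    (z n s : Fin k → G) (w : G) : Prop where
  ls : ∀ i, IsL S P D e (s i) (Pi.mulSingle i (up 1))
  lw : IsL S P D e w (fun _ => sw F)
  zV : ∀ i, z i ∈ zl S P
  nV : ∀ i, n i ∈ zl S P
  ez : ∀ i, e (z i) = Pi.single i ![1, 0]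
  en : ∀ i, e (n i) = Pi.single i ![0, 1]
  fz : ∀ i g B, IsL S P D e g B → B i = 1 → g * z i = z i * g
  fn : ∀ i g B, IsL S P D e g B → B i = 1 → g * n i = n i * g
  sz : ∀ i, s i * z i = z i * s i
  sn : ∀ i, s i * n i * (s i)⁻¹ = z i * n i
  wz : ∀ i, w * z i * w⁻¹ = n i
  wn : ∀ i, w * n i * w⁻¹ = z i

namespace IsL

variable {F : Type} [Field F] {S P D : Subgroup G} {e : G → Fin k → Fin 2 → F}
variable {g h : G} {A B : Fin k → Matrix.SpecialLinearGroup (Fin 2) F}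

theorem nP (hg : g ∈ P) : g ∈ normalizer (zl S P : Set G) := le_normalizer_zl _ _ hg

theorem mul (hg : IsL S P D e g A) (hh : IsL S P D e h B) : IsL S P D e (g * h) (A * B) :=
  ⟨mul_mem hg.mem hh.mem, mul_mem hg.cen hh.cen, hg.act.mul hh.act (nP hh.mem)⟩

theorem inv (hg : IsL S P D e g A) : IsL S P D e g⁻¹ A⁻¹ :=
  ⟨inv_mem hg.mem, inv_mem hg.cen, hg.act.inv (nP hg.mem)⟩

theorem one : IsL S P D e (1 : G) 1 := ⟨one_mem _, one_mem _, ActK.one⟩

end IsL

namespace CrdK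

variable [Finite G] {S : Sylow 2 G} {P H D : Subgroup G}
variable {F : Type} [Field F] {e : G → Fin k → Fin 2 → F}
variable (C : CrdK F (S : Subgroup G) P D k e)

section basic

include C

theorem e_one : e 1 = 0 := by
  have := C.mul 1 (zl (S : Subgroup G) P).one_mem 1 (zl (S : Subgroup G) P).one_mem
  rw [mul_one] at this
  exact left_eq_add.1 this

theorem e_inv {v : G} (hv : v ∈ zl (S : Subgroup G) P) : e v⁻¹ = - e v := by
  have := C.mul v⁻¹ ((zl (S : Subgroup G) P).inv_mem hv) v hv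
  rw [inv_mul_cancel, C.e_one] at this
  exact (neg_eq_of_add_eq_zero_left this.symm).symm

theorem eq_one {x : F} (hx : x ≠ 0) : x = 1 := (C.two x).resolve_left hx

/-- the vectors of `F_2²` -/
theorem vec (x : Fin 2 → F) : x = 0 ∨ x = ![1, 0] ∨ x = ![0, 1] ∨ x = ![1, 1] := by
  rcases C.two (x 0) with h0 | h0 <;> rcases C.two (x 1) with h1 | h1
  · left; funext i; fin_cases i; exacts [h0, h1]
  · right; right; left; funext i; fin_cases i; exacts [h0, h1]
  · right; left; funext i; fin_cases i; exacts [h0, h1]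
  · right; right; right; funext i; fin_cases i; exacts [h0, h1]

omit C in
theorem con {g v : G} (hg : g ∈ P) (hv : v ∈ zl (S : Subgroup G) P) :
    g * v * g⁻¹ ∈ zl (S : Subgroup G) P :=
  (mem_normalizer_iff.1 (IsL.nP hg) _).1 hv

/-- conjugate by an element of `P` -/
theorem conj {g h : G} {A : Fin k → Matrix.SpecialLinearGroup (Fin 2) F} (hg : g ∈ P)
    (hh : IsL (S : Subgroup G) P D e h A) : ∃ B, IsL (S : Subgroup G) P D e (g * h * g⁻¹) B := by
  obtain ⟨B, hB⟩ := C.norm g hg h hh.mem A hh.act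
  exact ⟨B, mul_mem (mul_mem hg hh.mem) (inv_mem hg),
    (mem_normalizer_iff.1 (conj_cent (C.PD hg)) h).1 hh.cen, hB⟩

theorem exists_lift (A : Fin k → Matrix.SpecialLinearGroup (Fin 2) F) : ∃ g, IsL (S : Subgroup G) P D e g A := by
  obtain ⟨g, h1, h2, h3⟩ := C.lift A
  exact ⟨g, h1, h3, h2⟩

end basic

section main

variable (hc : IsCharacteristicTwoType G) (hPH : IsParS (S : Subgroup G) P)
include hc hPH

theorem sqV : ∀ v ∈ zl (S : Subgroup G) P, v * v = 1 := fun v hv => by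
  rw [← pow_two]; exact (FFThm.elem_zl hc S hPH.isLoc).2 v hv

theorem abV : ∀ v ∈ zl (S : Subgroup G) P, ∀ w ∈ zl (S : Subgroup G) P, v * w = w * v := fun v hv w hw =>
  congrArg Subtype.val ((FFThm.elem_zl hc S hPH.isLoc).1.1.1 ⟨v, hv⟩ ⟨w, hw⟩)

include C

/-- an element acting trivially on `V / D` and `D` centralises `V` -/
theorem cent {x : G} (hx : IsL (S : Subgroup G) P D e x 1) :
    x ∈ centralizer (zl (S : Subgroup G) P : Set G) := by
  refine le_centralizer S hPH.le C.DV C.PD (sqV hc hPH) ⟨IsL.nP hx.mem, fun v hv => ?_⟩ hx.cen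
  rw [← C.ker _ (mul_mem (con hx.mem hv) (inv_mem hv)), C.mul _ (con hx.mem hv) _ (inv_mem hv), C.e_inv hv]
  funext i
  have h1 := hx.act v hv i
  change e (x * v * x⁻¹) i + -(e v i) = 0
  rw [h1]
  change ap 1 (e v i) + -(e v i) = 0
  rw [ap_one, add_neg_cancel]

/-- two elements with the same action -/
theorem same {x y : G} {A : Fin k → Matrix.SpecialLinearGroup (Fin 2) F} (hx : IsL (S : Subgroup G) P D e x A)
    (hy : IsL (S : Subgroup G) P D e y A) {v : G} (hv : v ∈ zl (S : Subgroup G) P) :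
    x * v * x⁻¹ = y * v * y⁻¹ := by
  have h1 : y⁻¹ * x ∈ centralizer (zl (S : Subgroup G) P : Set G) := by
    refine C.cent hc hPH ?_
    have := hy.inv.mul hx
    rwa [inv_mul_cancel] at this
  have h2 := mem_centralizer_iff.1 h1 v hv
  calc x * v * x⁻¹ = y * (y⁻¹ * x * v) * x⁻¹ := by group
    _ = y * (v * (y⁻¹ * x)) * x⁻¹ := by rw [h2]
    _ = y * v * y⁻¹ := by group

/-- **The key**: the commutator of `s ∈ SL₂(2)_i` and `v` in the `i`-th component is centralised by the elements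
trivial on the `i`-th component. -/
theorem key {i : Fin k} {g s v : G} {A : Matrix.SpecialLinearGroup (Fin 2) F} {x : Fin 2 → F}
    {B : Fin k → Matrix.SpecialLinearGroup (Fin 2) F}
    (hg : IsL (S : Subgroup G) P D e g B) (hB : B i = 1) (hs : IsL (S : Subgroup G) P D e s (Pi.mulSingle i A))
    (hv : v ∈ zl (S : Subgroup G) P) (hx : e v = Pi.single i x) :
    g * (s * v * s⁻¹ * v⁻¹) = s * v * s⁻¹ * v⁻¹ * g := by
  have hd : g * v * g⁻¹ * v⁻¹ ∈ D := by
    rw [← C.ker _ (mul_mem (con hg.mem hv) (inv_mem hv)), C.mul _ (con hg.mem hv) _ (inv_mem hv), C.e_inv hv]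
    funext j
    change e (g * v * g⁻¹) j + -(e v j) = 0
    rw [hg.act v hv j, hx]
    by_cases hj : j = i
    · subst hj
      rw [hB, ap_one, add_neg_cancel]
    · rw [Pi.single_eq_of_ne hj, ap_zero, neg_zero, add_zero]
  set d := g * v * g⁻¹ * v⁻¹ with hdef
  have hcomm : B * Pi.mulSingle i A = Pi.mulSingle i A * B := by
    funext j
    rw [Pi.mul_apply, Pi.mul_apply]
    by_cases hj : j = i
    · subst hj
      rw [hB, one_mul, mul_one]
    · rw [Pi.mulSingle_eq_of_ne hj, one_mul, mul_one]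
  have h1 := hg.mul hs
  rw [hcomm] at h1
  have h2 := C.same hc hPH h1 (hs.mul hg) hv
  have h3 : s * d = d * s := (mem_centralizer_iff.1 hs.cen d hd).symm
  have h4 : g * (s * v * s⁻¹) * g⁻¹ = d * (s * v * s⁻¹) := by
    calc g * (s * v * s⁻¹) * g⁻¹ = g * s * v * (g * s)⁻¹ := by group
      _ = s * g * v * (s * g)⁻¹ := h2
      _ = (s * d) * v * s⁻¹ := by rw [hdef]; group
      _ = d * (s * v * s⁻¹) := by rw [h3]; group
  have h5 : g * (s * v * s⁻¹ * v⁻¹) * g⁻¹ = s * v * s⁻¹ * v⁻¹ := by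
    have e1 : g * (s * v * s⁻¹ * v⁻¹) * g⁻¹ = (g * (s * v * s⁻¹) * g⁻¹) * (g * v * g⁻¹)⁻¹ := by group
    have e2 : g * v * g⁻¹ = d * v := by rw [hdef]; group
    have hcV : s * v * s⁻¹ * v⁻¹ ∈ zl (S : Subgroup G) P := mul_mem (con hs.mem hv) (inv_mem hv)
    have h6 := abV hc hPH d (C.DV hd) _ hcV
    rw [e1, h4, e2]
    calc d * (s * v * s⁻¹) * (d * v)⁻¹ = (d * (s * v * s⁻¹ * v⁻¹)) * d⁻¹ := by group
      _ = s * v * s⁻¹ * v⁻¹ := by rw [h6]; group
  exact mul_inv_eq_iff_eq_mul.1 h5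

variable [CharP F 2]

/-- **The exact elements.** -/
theorem exists_exa : ∃ (z n s : Fin k → G) (w : G), Exa (S : Subgroup G) P D e z n s w := by
  choose s hs using fun i : Fin k => C.exists_lift (Pi.mulSingle i (up 1))
  choose v hvV hv using fun i : Fin k => C.surj (Pi.single i ![0, 1])
  obtain ⟨w, hw⟩ := C.exists_lift fun _ => sw F
  set z : Fin k → G := fun i => s i * v i * (s i)⁻¹ * (v i)⁻¹ with hz
  set n : Fin k → G := fun i => w * z i * w⁻¹ with hn
  have zV : ∀ i, z i ∈ zl (S : Subgroup G) P := fun i => mul_mem (con (hs i).mem (hvV i)) (inv_mem (hvV i))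
  have nV : ∀ i, n i ∈ zl (S : Subgroup G) P := fun i => con hw.mem (zV i)
  have ez : ∀ i, e (z i) = Pi.single i ![1, 0] := by
    intro i
    rw [hz]
    simp only
    rw [C.mul _ (con (hs i).mem (hvV i)) _ (inv_mem (hvV i)), C.e_inv (hvV i)]
    funext j
    change e (s i * v i * (s i)⁻¹) j + -(e (v i) j) = _
    rw [(hs i).act _ (hvV i) j, hv]
    by_cases hj : j = i
    · subst hj
      rw [Pi.single_eq_same, Pi.single_eq_same, Pi.mulSingle_eq_same, ap_up']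
      funext l
      fin_cases l
      · simp
      · simp
    · rw [Pi.single_eq_of_ne hj, Pi.single_eq_of_ne hj, ap_zero, neg_zero, add_zero]
  have en : ∀ i, e (n i) = Pi.single i ![0, 1] := by
    intro i
    funext j
    rw [hn]
    simp only
    rw [hw.act _ (zV i) j, ez]
    by_cases hj : j = i
    · subst hj
      rw [Pi.single_eq_same, Pi.single_eq_same, ap_sw_z]
    · rw [Pi.single_eq_of_ne hj, Pi.single_eq_of_ne hj, ap_zero]
  have fz : ∀ i g B, IsL (S : Subgroup G) P D e g B → B i = 1 → g * z i = z i * g := fun i g B hg hB =>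
    C.key hc hPH hg hB (hs i) (hvV i) (hv i)
  have fn : ∀ i g B, IsL (S : Subgroup G) P D e g B → B i = 1 → g * n i = n i * g := by
    intro i g B hg hB
    have h1 := fz i _ _ ((hw.inv.mul hg).mul hw) (by
      rw [Pi.mul_apply, Pi.mul_apply, hB, mul_one, Pi.inv_apply, inv_mul_cancel])
    calc g * n i = w * ((w⁻¹ * g * w) * z i) * w⁻¹ := by rw [hn]; group
      _ = w * (z i * (w⁻¹ * g * w)) * w⁻¹ := by rw [h1]
      _ = n i * g := by rw [hn]; group
  have sz : ∀ i, s i * z i = z i * s i := by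
    intro i
    have h1 := (hs i).mul (hs i)
    have e0 : (Pi.mulSingle i (up (1 : F)) * Pi.mulSingle i (up 1) :
        Fin k → Matrix.SpecialLinearGroup (Fin 2) F) = 1 := by
      rw [← Pi.mulSingle_mul, up_sq, Pi.mulSingle_one]
    rw [e0] at h1
    have h2 := mem_centralizer_iff.1 (C.cent hc hPH h1) _ (hvV i)
    have h3 : z i * z i = 1 := sqV hc hPH _ (zV i)
    have h4 : s i * z i * (s i)⁻¹ = z i := by
      have e1 : s i * z i * (s i)⁻¹ = (s i * s i * v i) * (s i * s i)⁻¹ * (s i * v i * (s i)⁻¹)⁻¹ := by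
        rw [hz]; group
      have e2 : (s i * v i * (s i)⁻¹)⁻¹ = (v i)⁻¹ * (z i)⁻¹ := by rw [hz]; group
      rw [e1, ← h2, e2]
      calc v i * (s i * s i) * (s i * s i)⁻¹ * ((v i)⁻¹ * (z i)⁻¹) = (z i)⁻¹ := by group
        _ = z i := inv_eq_of_mul_eq_one_left h3
    exact mul_inv_eq_iff_eq_mul.1 h4
  have sn : ∀ i, s i * n i * (s i)⁻¹ = z i * n i := by
    intro i
    have hd : (v i)⁻¹ * n i ∈ D := by
      rw [← C.ker _ (mul_mem (inv_mem (hvV i)) (nV i)), C.mul _ (inv_mem (hvV i)) _ (nV i), C.e_inv (hvV i),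
        hv, en, neg_add_cancel]
    have h1 := mem_centralizer_iff.1 (hs i).cen _ hd
    calc s i * n i * (s i)⁻¹ = s i * v i * ((v i)⁻¹ * n i) * (s i)⁻¹ := by group
      _ = s i * v i * (s i)⁻¹ * (s i * ((v i)⁻¹ * n i)) * (s i)⁻¹ := by group
      _ = s i * v i * (s i)⁻¹ * ((v i)⁻¹ * n i * s i) * (s i)⁻¹ := by rw [h1]
      _ = z i * n i := by rw [hz]; group
  have wn : ∀ i, w * n i * w⁻¹ = z i := by
    intro i
    have h1 := hw.mul hw
    have e0 : ((fun _ => sw F) * (fun _ => sw F) : Fin k → Matrix.SpecialLinearGroup (Fin 2) F) = 1 := by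
      funext j
      exact sw_sq
    rw [e0] at h1
    have h2 := mem_centralizer_iff.1 (C.cent hc hPH h1) _ (zV i)
    calc w * n i * w⁻¹ = (w * w * z i) * (w * w)⁻¹ := by rw [hn]; group
      _ = z i := by rw [← h2]; group
  exact ⟨z, n, s, w, hs, hw, zV, nV, ez, en, fz, fn, sz, sn, fun i => rfl, wn⟩

end main

section exa

variable [CharP F 2] (hc : IsCharacteristicTwoType G) (hPH : IsParS (S : Subgroup G) P)
variable {z n s : Fin k → G} {w : G} (E : Exa (S : Subgroup G) P D e z n s w)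
include hc hPH C E

/-- `z i n i` -/
theorem ezn (i : Fin k) : e (z i * n i) = Pi.single i ![1, 1] := by
  rw [C.mul _ (E.zV i) _ (E.nV i), E.ez, E.en, ← Pi.single_add]
  congr 1
  funext l
  fin_cases l
  · simp
  · simp

theorem Nn_le {i : Fin k} {x : G} (hx : x ∈ Nn z n i) : x ∈ zl (S : Subgroup G) P := by
  rcases hx with rfl | rfl | rfl
  · exact E.zV i
  · exact E.nV i
  · exact mul_mem (E.zV i) (E.nV i)

theorem zz (i : Fin k) : z i * z i = 1 := sqV hc hPH _ (E.zV i)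

theorem zn_comm (i : Fin k) : z i * n i = n i * z i := abV hc hPH _ (E.zV i) _ (E.nV i)

/-- the coordinates of the elements of `N_i` -/
theorem e_Nn {i : Fin k} {x : G} (hx : x ∈ Nn z n i) : ∃ y : Fin 2 → F, y ≠ 0 ∧ e x = Pi.single i y := by
  rcases hx with rfl | rfl | rfl
  · exact ⟨_, fun h => one_ne_zero (congrFun h 0), E.ez i⟩
  · exact ⟨_, fun h => one_ne_zero (congrFun h 1), E.en i⟩
  · exact ⟨_, fun h => one_ne_zero (congrFun h 0), C.ezn hc hPH E i⟩

/-- two elements with the same `i`-th component act in the same way on `N_i` -/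
theorem same_i {i : Fin k} {g h : G} {A B : Fin k → Matrix.SpecialLinearGroup (Fin 2) F}
    (hg : IsL (S : Subgroup G) P D e g A) (hh : IsL (S : Subgroup G) P D e h B) (hAB : A i = B i) {x : G}
    (hx : x ∈ Nn z n i) : g * x * g⁻¹ = h * x * h⁻¹ := by
  have h1 := hh.inv.mul hg
  have h2 : (B⁻¹ * A) i = 1 := by
    rw [Pi.mul_apply, Pi.inv_apply, hAB, inv_mul_cancel]
  have h3 : h⁻¹ * g * x = x * (h⁻¹ * g) := by
    rcases hx with rfl | rfl | rfl
    · exact E.fz i _ _ h1 h2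
    · exact E.fn i _ _ h1 h2
    · calc h⁻¹ * g * (z i * n i) = (h⁻¹ * g * z i) * n i := by group
        _ = z i * (h⁻¹ * g * n i) := by rw [E.fz i _ _ h1 h2]; group
        _ = z i * n i * (h⁻¹ * g) := by rw [E.fn i _ _ h1 h2]; group
  calc g * x * g⁻¹ = h * (h⁻¹ * g * x) * g⁻¹ := by group
    _ = h * (x * (h⁻¹ * g)) * g⁻¹ := by rw [h3]
    _ = h * x * h⁻¹ := by group

/-- `N_i` is invariant under the elements inducing `SL₂(2)^k`. -/
theorem inv_Nn {i : Fin k} {g : G} {A : Fin k → Matrix.SpecialLinearGroup (Fin 2) F}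
    (hg : IsL (S : Subgroup G) P D e g A) {x : G} (hx : x ∈ Nn z n i) : g * x * g⁻¹ ∈ Nn z n i := by
  -- the matrices with this property
  let Q : Matrix.SpecialLinearGroup (Fin 2) F → Prop := fun M =>
    ∀ g A, IsL (S : Subgroup G) P D e g A → A i = M → ∀ x ∈ Nn z n i, g * x * g⁻¹ ∈ Nn z n i
  have of_one : ∀ {g A M}, IsL (S : Subgroup G) P D e g A → A i = M → (∀ x ∈ Nn z n i, g * x * g⁻¹ ∈ Nn z n i) →
      Q M := by
    intro g A M hg hA h g' A' hg' hA' x hx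
    rw [C.same_i hc hPH E hg' hg (hA'.trans hA.symm) hx]
    exact h x hx
  have Qmul : ∀ {M N}, Q M → Q N → Q (M * N) := by
    intro M N hM hN
    obtain ⟨g1, h1⟩ := C.exists_lift (Pi.mulSingle i M)
    obtain ⟨g2, h2⟩ := C.exists_lift (Pi.mulSingle i N)
    refine of_one (h1.mul h2) (by rw [Pi.mul_apply, Pi.mulSingle_eq_same, Pi.mulSingle_eq_same]) fun x hx => ?_
    have e1 : g1 * g2 * x * (g1 * g2)⁻¹ = g1 * (g2 * x * g2⁻¹) * g1⁻¹ := by group
    rw [e1]
    have hM1 : (Pi.mulSingle i M : Fin k → Matrix.SpecialLinearGroup (Fin 2) F) i = M := by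
      rw [Pi.mulSingle_eq_same]
    have hN1 : (Pi.mulSingle i N : Fin k → Matrix.SpecialLinearGroup (Fin 2) F) i = N := by
      rw [Pi.mulSingle_eq_same]
    exact hM g1 _ h1 hM1 _ (hN g2 _ h2 hN1 _ hx)
  have hzn : ∀ g : G, g * (z i * n i) * g⁻¹ = (g * z i * g⁻¹) * (g * n i * g⁻¹) := fun g => by group
  have Q1 : Q 1 := of_one IsL.one rfl fun x hx => by
    rwa [one_mul, inv_one, mul_one]
  have Qup : Q (up 1) := by
    refine of_one (E.ls i) (Pi.mulSingle_eq_same i _) fun x hx => ?_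
    have h1 : s i * z i * (s i)⁻¹ = z i := by rw [E.sz, mul_inv_cancel_right]
    rcases hx with rfl | rfl | rfl
    · left; exact h1
    · right; right; exact E.sn i
    · right; left
      rw [hzn, h1, E.sn, ← mul_assoc, C.zz hc hPH E, one_mul]
  have Qsw : Q (sw F) := by
    refine of_one E.lw rfl fun x hx => ?_
    rcases hx with rfl | rfl | rfl
    · right; left; exact E.wz i
    · left; exact E.wn i
    · right; right
      rw [hzn, E.wz, E.wn, C.zn_comm hc hPH E]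
  have Qlo : Q (lo 1) := by
    rw [lo_eq]
    exact Qmul (Qmul Qup Qsw) Qup
  have Qup' : ∀ b : F, Q (up b) := by
    intro b
    rcases C.two b with rfl | rfl
    · rw [up_zero]; exact Q1
    · exact Qup
  have Qlo' : ∀ b : F, Q (lo b) := by
    intro b
    rcases C.two b with rfl | rfl
    · rw [lo_zero]; exact Q1
    · exact Qlo
  obtain ⟨a, b, c, d, hA⟩ := exists_up_lo (A i)
  exact Qmul (Qmul (Qmul (Qup' a) (Qlo' b)) (Qup' c)) (Qlo' d) g A hg hA x hx

omit C hc hPH E in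
/-- `V₀ = ⟨z_i, n_i⟩` -/
theorem Nn_V₀ {i : Fin k} {x : G} (hx : x ∈ Nn z n i) : x ∈ closure (Set.range z ∪ Set.range n) := by
  have hz : z i ∈ closure (Set.range z ∪ Set.range n) := subset_closure (Or.inl ⟨i, rfl⟩)
  have hn : n i ∈ closure (Set.range z ∪ Set.range n) := subset_closure (Or.inr ⟨i, rfl⟩)
  rcases hx with rfl | rfl | rfl
  · exact hz
  · exact hn
  · exact mul_mem hz hn

theorem V₀_le : closure (Set.range z ∪ Set.range n) ≤ zl (S : Subgroup G) P := by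
  rw [closure_le]
  rintro x (⟨i, rfl⟩ | ⟨i, rfl⟩)
  · exact E.zV i
  · exact E.nV i

/-- `V₀` is invariant -/
theorem inv_V₀ {g : G} {A : Fin k → Matrix.SpecialLinearGroup (Fin 2) F}
    (hg : IsL (S : Subgroup G) P D e g A) {x : G} (hx : x ∈ closure (Set.range z ∪ Set.range n)) :
    g * x * g⁻¹ ∈ closure (Set.range z ∪ Set.range n) := by
  have h1 : closure (Set.range z ∪ Set.range n) ≤
      (closure (Set.range z ∪ Set.range n)).comap (MulAut.conj g).toMonoidHom := by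
    rw [closure_le]
    rintro y (⟨i, rfl⟩ | ⟨i, rfl⟩)
    · exact Nn_V₀ (C.inv_Nn hc hPH E hg (i := i) (Or.inl rfl))
    · exact Nn_V₀ (C.inv_Nn hc hPH E hg (i := i) (Or.inr (Or.inl rfl)))
  exact h1 hx

/-- `V₀ ∩ D = 1` -/
theorem V₀_inf {x : G} (hx : x ∈ closure (Set.range z ∪ Set.range n)) (hD : x ∈ D) : x = 1 := by
  obtain ⟨ρ, hρ⟩ := C.exists_lift fun _ => up 1 * sw F
  have hV := C.V₀_le hc hPH E
  have hab := abV hc hPH
  -- the action of `ρ`
  have hz : ∀ i, ρ * z i * ρ⁻¹ = z i * n i := by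
    intro i
    rw [C.same_i hc hPH E hρ ((E.ls i).mul E.lw) (by rw [Pi.mul_apply, Pi.mulSingle_eq_same]) (Or.inl rfl)]
    calc s i * w * z i * (s i * w)⁻¹ = s i * (w * z i * w⁻¹) * (s i)⁻¹ := by group
      _ = z i * n i := by rw [E.wz, E.sn]
  have hn : ∀ i, ρ * n i * ρ⁻¹ = z i := by
    intro i
    rw [C.same_i hc hPH E hρ ((E.ls i).mul E.lw) (by rw [Pi.mul_apply, Pi.mulSingle_eq_same])
      (Or.inr (Or.inl rfl))]
    calc s i * w * n i * (s i * w)⁻¹ = s i * (w * n i * w⁻¹) * (s i)⁻¹ := by group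
      _ = z i := by rw [E.wn, E.sz, mul_inv_cancel_right]
  have key : ∀ y ∈ closure (Set.range z ∪ Set.range n),
      y * (ρ * y * ρ⁻¹) * (ρ * (ρ * y * ρ⁻¹) * ρ⁻¹) = 1 := by
    intro y hy
    induction hy using closure_induction with
    | mem y hy =>
      rcases hy with ⟨i, rfl⟩ | ⟨i, rfl⟩
      · have h1 : ρ * (z i * n i) * ρ⁻¹ = n i := by
          have e1 : ρ * (z i * n i) * ρ⁻¹ = (ρ * z i * ρ⁻¹) * (ρ * n i * ρ⁻¹) := by group
          rw [e1, hz, hn, C.zn_comm hc hPH E, mul_assoc, C.zz hc hPH E, mul_one]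
        rw [hz, h1, ← mul_assoc, C.zz hc hPH E, one_mul]
        exact sqV hc hPH _ (E.nV i)
      · rw [hn, hz, ← C.zn_comm hc hPH E]
        exact sqV hc hPH _ (mul_mem (E.zV i) (E.nV i))
    | one => simp
    | mul a b ha' hb' ha hb =>
      have va := hV ha'
      have vb := hV hb'
      have va1 := con hρ.mem va
      have vb1 := con hρ.mem vb
      have va2 := con hρ.mem va1
      have e1 : a * b * (ρ * (a * b) * ρ⁻¹) * (ρ * (ρ * (a * b) * ρ⁻¹) * ρ⁻¹) =
          a * (b * (ρ * a * ρ⁻¹)) * ((ρ * b * ρ⁻¹) * (ρ * (ρ * a * ρ⁻¹) * ρ⁻¹)) *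
            (ρ * (ρ * b * ρ⁻¹) * ρ⁻¹) := by group
      rw [e1, hab b vb _ va1, hab _ vb1 _ va2]
      have e2 : a * (ρ * a * ρ⁻¹ * b) * (ρ * (ρ * a * ρ⁻¹) * ρ⁻¹ * (ρ * b * ρ⁻¹)) *
          (ρ * (ρ * b * ρ⁻¹) * ρ⁻¹) = a * (ρ * a * ρ⁻¹) * (b * (ρ * (ρ * a * ρ⁻¹) * ρ⁻¹)) *
            ((ρ * b * ρ⁻¹) * (ρ * (ρ * b * ρ⁻¹) * ρ⁻¹)) := by group
      rw [e2, hab b vb _ va2]
      have e3 : a * (ρ * a * ρ⁻¹) * (ρ * (ρ * a * ρ⁻¹) * ρ⁻¹ * b) *
          ((ρ * b * ρ⁻¹) * (ρ * (ρ * b * ρ⁻¹) * ρ⁻¹)) =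
          (a * (ρ * a * ρ⁻¹) * (ρ * (ρ * a * ρ⁻¹) * ρ⁻¹)) *
            (b * (ρ * b * ρ⁻¹) * (ρ * (ρ * b * ρ⁻¹) * ρ⁻¹)) := by group
      rw [e3, ha, hb, one_mul]
    | inv a ha' ha =>
      rw [inv_eq_of_mul_eq_one_left (sqV hc hPH a (hV ha'))]
      exact ha
  have h1 := key x hx
  have h2 : ρ * x * ρ⁻¹ = x := by
    rw [← mem_centralizer_iff.1 hρ.cen x hD, mul_inv_cancel_right]
  rw [h2, h2, sqV hc hPH x (hV hx), one_mul] at h1
  exact h1

/-- injectivity of the coordinates on `V₀` -/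
theorem inj {x y : G} (hx : x ∈ closure (Set.range z ∪ Set.range n))
    (hy : y ∈ closure (Set.range z ∪ Set.range n)) (h : e x = e y) : x = y := by
  have hV := C.V₀_le hc hPH E
  have h1 : x * y⁻¹ ∈ D := by
    rw [← C.ker _ (mul_mem (hV hx) (inv_mem (hV hy))), C.mul _ (hV hx) _ (inv_mem (hV hy)), C.e_inv (hV hy), h,
      add_neg_cancel]
  exact mul_inv_eq_one.1 (C.V₀_inf hc hPH E (mul_mem hx (inv_mem hy)) h1)

/-- `V₀` covers `V / D` -/
theorem exists_V₀ (x : Fin k → Fin 2 → F) : ∃ y ∈ closure (Set.range z ∪ Set.range n), e y = x := by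
  have hV := C.V₀_le hc hPH E
  let I : AddSubgroup (Fin k → Fin 2 → F) :=
    { carrier := {x | ∃ y ∈ closure (Set.range z ∪ Set.range n), e y = x}
      zero_mem' := ⟨1, one_mem _, C.e_one⟩
      add_mem' := by
        rintro _ _ ⟨a, ha, rfl⟩ ⟨b, hb, rfl⟩
        exact ⟨a * b, mul_mem ha hb, C.mul a (hV ha) b (hV hb)⟩
      neg_mem' := by
        rintro _ ⟨a, ha, rfl⟩
        exact ⟨a⁻¹, inv_mem ha, C.e_inv (hV ha)⟩ }
  have h1 : ∀ i (y : Fin 2 → F), Pi.single i y ∈ I := by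
    intro i y
    rcases C.vec y with rfl | rfl | rfl | rfl
    · rw [Pi.single_zero]; exact I.zero_mem
    · exact ⟨z i, subset_closure (Or.inl ⟨i, rfl⟩), E.ez i⟩
    · exact ⟨n i, subset_closure (Or.inr ⟨i, rfl⟩), E.en i⟩
    · exact ⟨z i * n i, Nn_V₀ (Or.inr (Or.inr rfl)), C.ezn hc hPH E i⟩
  have h2 : x ∈ I := by
    rw [← Finset.univ_sum_single x]
    exact I.sum_mem fun i _ => h1 i _
  exact h2

/-- `V = V₀ D` -/
theorem exists_mul_D {v : G} (hv : v ∈ zl (S : Subgroup G) P) :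
    ∃ x ∈ closure (Set.range z ∪ Set.range n), ∃ d ∈ D, v = x * d := by
  obtain ⟨x, hx, hxv⟩ := C.exists_V₀ hc hPH E (e v)
  have hxV := C.V₀_le hc hPH E hx
  refine ⟨x, hx, x⁻¹ * v, ?_, by group⟩
  rw [← C.ker _ (mul_mem (inv_mem hxV) hv), C.mul _ (inv_mem hxV) _ hv, C.e_inv hxV, hxv, neg_add_cancel]

/-- commutators with `SL₂(2)^k` are in `V₀` -/
theorem comm_V₀ {h v : G} {A : Fin k → Matrix.SpecialLinearGroup (Fin 2) F}
    (hh : IsL (S : Subgroup G) P D e h A) (hv : v ∈ zl (S : Subgroup G) P) :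
    h * v * h⁻¹ * v⁻¹ ∈ closure (Set.range z ∪ Set.range n) := by
  obtain ⟨x, hx, d, hd, rfl⟩ := C.exists_mul_D hc hPH E hv
  have h1 := mem_centralizer_iff.1 hh.cen d hd
  have e1 : h * (x * d) * h⁻¹ * (x * d)⁻¹ = h * x * h⁻¹ * x⁻¹ := by
    calc h * (x * d) * h⁻¹ * (x * d)⁻¹ = h * x * (d * h⁻¹) * d⁻¹ * x⁻¹ := by group
      _ = h * x * (h⁻¹ * (h * d) * h⁻¹) * d⁻¹ * x⁻¹ := by group
      _ = h * x * h⁻¹ * x⁻¹ := by rw [← h1]; group
  rw [e1]
  exact mul_mem (C.inv_V₀ hc hPH E hh hx) (inv_mem hx)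

/-- `z i` is a commutator -/
theorem z_eq (i : Fin k) : z i = s i * n i * (s i)⁻¹ * (n i)⁻¹ := by
  rw [E.sn, mul_inv_cancel_right]

/-- `P` normalises `V₀` -/
theorem conj_z {g : G} (hg : g ∈ P) (i : Fin k) : g * z i * g⁻¹ ∈ closure (Set.range z ∪ Set.range n) := by
  obtain ⟨B, hB⟩ := C.conj hg (E.ls i)
  have h1 := C.comm_V₀ hc hPH E hB (con hg (E.nV i))
  have e1 : g * z i * g⁻¹ = g * s i * g⁻¹ * (g * n i * g⁻¹) * (g * s i * g⁻¹)⁻¹ * (g * n i * g⁻¹)⁻¹ := by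
    rw [C.z_eq hc hPH E i]; group
  rw [e1]
  exact h1

theorem conj_Nn {g : G} (hg : g ∈ P) {i : Fin k} {x : G} (hx : x ∈ Nn z n i) :
    g * x * g⁻¹ ∈ closure (Set.range z ∪ Set.range n) := by
  have hz := C.conj_z hc hPH E hg i
  have hn : g * n i * g⁻¹ ∈ closure (Set.range z ∪ Set.range n) := by
    have h1 := C.conj_z hc hPH E (mul_mem hg E.lw.mem) i
    have e1 : g * w * z i * (g * w)⁻¹ = g * (w * z i * w⁻¹) * g⁻¹ := by group
    rwa [e1, E.wz] at h1
  rcases hx with rfl | rfl | rfl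
  · exact hz
  · exact hn
  · have e1 : g * (z i * n i) * g⁻¹ = (g * z i * g⁻¹) * (g * n i * g⁻¹) := by group
    rw [e1]
    exact mul_mem hz hn

/-- `P` normalises `V₀` -/
theorem conj_V₀ {g : G} (hg : g ∈ P) {x : G} (hx : x ∈ closure (Set.range z ∪ Set.range n)) :
    g * x * g⁻¹ ∈ closure (Set.range z ∪ Set.range n) := by
  have h1 : closure (Set.range z ∪ Set.range n) ≤
      (closure (Set.range z ∪ Set.range n)).comap (MulAut.conj g).toMonoidHom := by
    rw [closure_le]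
    rintro y (⟨i, rfl⟩ | ⟨i, rfl⟩)
    · exact C.conj_Nn hc hPH E hg (i := i) (Or.inl rfl)
    · exact C.conj_Nn hc hPH E hg (i := i) (Or.inr (Or.inl rfl))
  exact h1 hx

/-- an element of `V₀` with coordinates in the `i`-th component -/
theorem mem_Nn {i : Fin k} {x : G} (hx : x ∈ closure (Set.range z ∪ Set.range n)) {y : Fin 2 → F} (hy : y ≠ 0)
    (h : e x = Pi.single i y) : x ∈ Nn z n i := by
  rcases C.vec y with rfl | rfl | rfl | rfl
  · exact absurd rfl hy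
  · left; exact C.inj hc hPH E hx (Nn_V₀ (Or.inl rfl)) (h.trans (E.ez i).symm)
  · right; left; exact C.inj hc hPH E hx (Nn_V₀ (Or.inr (Or.inl rfl))) (h.trans (E.en i).symm)
  · right; right; exact C.inj hc hPH E hx (Nn_V₀ (Or.inr (Or.inr rfl))) (h.trans (C.ezn hc hPH E i).symm)

/-- `P` permutes the `N_i` -/
theorem perm_Nn {g : G} (hg : g ∈ P) : ∃ σ : Equiv.Perm (Fin k), ∀ i, ∀ x ∈ Nn z n i, g * x * g⁻¹ ∈ Nn z n (σ i) := by
  obtain ⟨σ, hσ⟩ := C.perm g hg
  refine ⟨σ, fun i x hx => ?_⟩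
  have hxV := C.Nn_le hc hPH E hx
  obtain ⟨y, hy, hxy⟩ := C.e_Nn hc hPH E hx
  have h1 : ∀ j, j ≠ σ i → e (g * x * g⁻¹) j = 0 := by
    intro j hj
    obtain ⟨l, rfl⟩ := σ.surjective j
    rw [hσ x hxV l, hxy, Pi.single_eq_of_ne]
    rintro rfl
    exact hj rfl
  have h2 : e (g * x * g⁻¹) (σ i) ≠ 0 := by
    intro h
    rw [hσ x hxV i, hxy, Pi.single_eq_same] at h
    exact hy h
  refine C.mem_Nn hc hPH E (C.conj_Nn hc hPH E hg hx) h2 ?_
  funext j
  by_cases hj : j = σ i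
  · subst hj
    rw [Pi.single_eq_same]
  · rw [Pi.single_eq_of_ne hj, h1 j hj]

/-- the index of an element of `N_i` -/
theorem disj {i j : Fin k} {x : G} (hi : x ∈ Nn z n i) (hj : x ∈ Nn z n j) : i = j := by
  obtain ⟨y, hy, h1⟩ := C.e_Nn hc hPH E hi
  obtain ⟨y', -, h2⟩ := C.e_Nn hc hPH E hj
  by_contra hij
  have h3 := congrFun (h1.symm.trans h2) i
  rw [Pi.single_eq_same, Pi.single_eq_of_ne hij] at h3
  exact hy h3

/-- an element of `N_i` with second coordinate `0` -/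
theorem eq_z {i : Fin k} {x : G} (hx : x ∈ Nn z n i) (h : e x i 1 = 0) : x = z i := by
  rcases hx with rfl | rfl | rfl
  · rfl
  · rw [E.en, Pi.single_eq_same] at h
    exact absurd h one_ne_zero
  · rw [C.ezn hc hPH E, Pi.single_eq_same] at h
    exact absurd h one_ne_zero

/-- `S` permutes the `z i` -/
theorem perm_z {g : G} (hg : g ∈ (S : Subgroup G)) : ∃ σ : Equiv.Perm (Fin k), ∀ i, g * z i * g⁻¹ = z (σ i) := by
  obtain ⟨σ, hσ⟩ := C.perm_Nn hc hPH E (hPH.le hg)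
  obtain ⟨τ, hτ⟩ := C.line g hg
  refine ⟨σ, fun i => C.eq_z hc hPH E (hσ i (z i) (Or.inl rfl)) ?_⟩
  obtain ⟨l, hl⟩ := τ.surjective (σ i)
  rw [← hl, hτ _ (E.zV i) l, E.ez]
  by_cases hj : l = i
  · subst hj
    rw [Pi.single_eq_same]
    rfl
  · rw [Pi.single_eq_of_ne hj]
    rfl

/-- `S` is transitive on the `z i` -/
theorem trans_z (i j : Fin k) : ∃ g ∈ (S : Subgroup G), g * z i * g⁻¹ = z j := by
  obtain ⟨g, hg, h⟩ := C.trans i j
  obtain ⟨σ, hσ⟩ := C.perm_z hc hPH E hg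
  refine ⟨g, hg, ?_⟩
  have h1 := hσ i
  have h2 : σ i = j := by
    by_contra hne
    have h3 := (h _ (E.zV i)).1 (by rw [h1, E.ez, Pi.single_eq_of_ne (fun h0 => hne h0.symm)])
    rw [E.ez, Pi.single_eq_same] at h3
    exact one_ne_zero (congrFun h3 0)
  rw [h1, h2]

/-- **An abelian normal subgroup of `S` normalises the `N_i`.** -/
theorem perm_id {U : Subgroup G} (hUS : U ≤ (S : Subgroup G)) (hSU : (S : Subgroup G) ≤ normalizer (U : Set G))
    (hab : ∀ u ∈ U, ∀ v ∈ U, u * v = v * u) {u : G} (hu : u ∈ U) (i : Fin k) :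
    u * n i * u⁻¹ ∈ Nn z n i ∧ u * z i * u⁻¹ = z i := by
  have huS := hUS hu
  have huP := hPH.le huS
  have hVS : zl (S : Subgroup G) P ≤ (S : Subgroup G) := IsParS.zl_le_S hc hPH
  have habV := abV hc hPH
  obtain ⟨σ, hσ⟩ := C.perm_Nn hc hPH E huP
  obtain ⟨σ', hσ'⟩ := C.perm_Nn hc hPH E (inv_mem huP)
  obtain ⟨τ, hτ⟩ := C.perm_z hc hPH E huS
  have hτσ : ∀ j, τ j = σ j := fun j => by
    have h1 := hσ j (z j) (Or.inl rfl)
    rw [hτ j] at h1
    exact C.disj hc hPH E (Or.inl rfl) h1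
  suffices h : σ i = i by
    refine ⟨?_, by rw [hτ i, hτσ, h]⟩
    have h1 := hσ i (n i) (Or.inr (Or.inl rfl))
    rwa [h] at h1
  by_contra hne
  have hne' : σ' i ≠ i := by
    intro h
    have h1 := hσ' i (n i) (Or.inr (Or.inl rfl))
    rw [h] at h1
    have h2 := hσ i _ h1
    have e1 : u * (u⁻¹ * n i * u⁻¹⁻¹) * u⁻¹ = n i := by group
    rw [e1] at h2
    exact hne (C.disj hc hPH E h2 (Or.inr (Or.inl rfl)))
  obtain ⟨t, htS, htA, htD⟩ := C.unip i
  have ht : IsL (S : Subgroup G) P D e t (Pi.mulSingle i (up 1)) := ⟨hPH.le htS, htD, htA⟩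
  have hcomm : ∀ j, j ≠ i → ∀ x ∈ Nn z n j, t * x = x * t := by
    intro j hj x hx
    have hB : (Pi.mulSingle i (up 1) : Fin k → Matrix.SpecialLinearGroup (Fin 2) F) j = 1 :=
      Pi.mulSingle_eq_of_ne hj _
    rcases hx with rfl | rfl | rfl
    · exact E.fz j t _ ht hB
    · exact E.fn j t _ ht hB
    · calc t * (z j * n j) = (t * z j) * n j := by group
        _ = z j * (t * n j) := by rw [E.fz j t _ ht hB]; group
        _ = z j * n j * t := by rw [E.fn j t _ ht hB]; group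
  have htn : t * n i * t⁻¹ = z i * n i := by
    rw [C.same_i hc hPH E ht (E.ls i) rfl (Or.inr (Or.inl rfl)), E.sn]
  have htz : t * z i * t⁻¹ = z i := by
    rw [C.same_i hc hPH E ht (E.ls i) rfl (Or.inl rfl), E.sz, mul_inv_cancel_right]
  have htn' : t⁻¹ * n i * t = z i * n i := by
    have h1 : t * (z i * n i) * t⁻¹ = n i := by
      calc t * (z i * n i) * t⁻¹ = (t * z i * t⁻¹) * (t * n i * t⁻¹) := by group
        _ = n i := by rw [htz, htn, ← mul_assoc, C.zz hc hPH E, one_mul]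
    calc t⁻¹ * n i * t = t⁻¹ * (t * (z i * n i) * t⁻¹) * t := by rw [h1]
      _ = z i * n i := by group
  have hcU : u * n i * u⁻¹ * (n i)⁻¹ ∈ U := by
    have h1 := (mem_normalizer_iff.1 (hSU (hVS (E.nV i))) _).1 (inv_mem hu)
    have e1 : u * n i * u⁻¹ * (n i)⁻¹ = u * (n i * u⁻¹ * (n i)⁻¹) := by group
    rw [e1]
    exact mul_mem hu h1
  have hwU : u * t * u⁻¹ * t⁻¹ ∈ U := by
    have h1 := (mem_normalizer_iff.1 (hSU htS) _).1 (inv_mem hu)
    have e1 : u * t * u⁻¹ * t⁻¹ = u * (t * u⁻¹ * t⁻¹) := by group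
    rw [e1]
    exact mul_mem hu h1
  have h1 := hab _ hwU _ hcU
  have hn' := hσ i (n i) (Or.inr (Or.inl rfl))
  have h2 : t⁻¹ * (u * n i * u⁻¹) * t = u * n i * u⁻¹ := by
    calc t⁻¹ * (u * n i * u⁻¹) * t = t⁻¹ * (u * n i * u⁻¹ * t) := by group
      _ = t⁻¹ * (t * (u * n i * u⁻¹)) := by rw [hcomm _ hne _ hn']
      _ = u * n i * u⁻¹ := by group
  have h3 : t * (u⁻¹ * (z i * n i) * u) * t⁻¹ = u⁻¹ * (z i * n i) * u := by
    have h4 := hσ' i (z i * n i) (Or.inr (Or.inr rfl))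
    rw [inv_inv] at h4
    rw [hcomm _ hne' _ h4, mul_inv_cancel_right]
  have h4 : (u * t * u⁻¹ * t⁻¹) * (u * n i * u⁻¹) * (u * t * u⁻¹ * t⁻¹)⁻¹ = z (σ i) * (u * n i * u⁻¹) := by
    calc (u * t * u⁻¹ * t⁻¹) * (u * n i * u⁻¹) * (u * t * u⁻¹ * t⁻¹)⁻¹
        = u * t * u⁻¹ * (t⁻¹ * (u * n i * u⁻¹) * t) * u * t⁻¹ * u⁻¹ := by group
      _ = u * (t * n i * t⁻¹) * u⁻¹ := by rw [h2]; group
      _ = (u * z i * u⁻¹) * (u * n i * u⁻¹) := by rw [htn]; group
      _ = z (σ i) * (u * n i * u⁻¹) := by rw [hτ i, hτσ]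
  have h5 : (u * t * u⁻¹ * t⁻¹) * n i * (u * t * u⁻¹ * t⁻¹)⁻¹ = z i * n i := by
    calc (u * t * u⁻¹ * t⁻¹) * n i * (u * t * u⁻¹ * t⁻¹)⁻¹
        = u * (t * (u⁻¹ * (t⁻¹ * n i * t) * u) * t⁻¹) * u⁻¹ := by group
      _ = z i * n i := by rw [htn', h3]; group
  have h6 : z (σ i) * (u * n i * u⁻¹) * (z i * n i)⁻¹ = u * n i * u⁻¹ * (n i)⁻¹ := by
    calc z (σ i) * (u * n i * u⁻¹) * (z i * n i)⁻¹
        = ((u * t * u⁻¹ * t⁻¹) * (u * n i * u⁻¹) * (u * t * u⁻¹ * t⁻¹)⁻¹) *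
          ((u * t * u⁻¹ * t⁻¹) * n i * (u * t * u⁻¹ * t⁻¹)⁻¹)⁻¹ := by rw [h4, h5]
      _ = (u * t * u⁻¹ * t⁻¹) * (u * n i * u⁻¹ * (n i)⁻¹) * (u * t * u⁻¹ * t⁻¹)⁻¹ := by group
      _ = (u * n i * u⁻¹ * (n i)⁻¹) * (u * t * u⁻¹ * t⁻¹) * (u * t * u⁻¹ * t⁻¹)⁻¹ := by rw [h1]
      _ = u * n i * u⁻¹ * (n i)⁻¹ := by group
  have hV1 := C.Nn_le hc hPH E hn'
  have h7 : z (σ i) = z i := by
    have h8 : z (σ i) * (z i)⁻¹ * (u * n i * u⁻¹ * (n i)⁻¹) = u * n i * u⁻¹ * (n i)⁻¹ := by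
      calc z (σ i) * (z i)⁻¹ * (u * n i * u⁻¹ * (n i)⁻¹)
          = z (σ i) * ((z i)⁻¹ * (u * n i * u⁻¹ * (n i)⁻¹)) := by group
        _ = z (σ i) * ((u * n i * u⁻¹ * (n i)⁻¹) * (z i)⁻¹) := by
            rw [habV _ (inv_mem (E.zV i)) _ (mul_mem hV1 (inv_mem (E.nV i)))]
        _ = z (σ i) * (u * n i * u⁻¹) * (z i * n i)⁻¹ := by group
        _ = u * n i * u⁻¹ * (n i)⁻¹ := h6
    exact mul_inv_eq_one.1 (mul_eq_right.1 h8)
  exact hne (C.disj hc hPH E (x := z i) (by rw [← h7]; exact Or.inl rfl) (Or.inl rfl))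

/-- the action of `U` -/
theorem U_n {U : Subgroup G} (hUS : U ≤ (S : Subgroup G)) (hSU : (S : Subgroup G) ≤ normalizer (U : Set G))
    (hab : ∀ u ∈ U, ∀ v ∈ U, u * v = v * u) {g : G} (hg : g ∈ U) (i : Fin k) :
    g * n i * g⁻¹ = n i ∨ g * n i * g⁻¹ = z i * n i := by
  obtain ⟨h1, h2⟩ := C.perm_id hc hPH E hUS hSU hab hg i
  rcases h1 with h1 | h1 | h1
  · exfalso
    have h3 : n i = z i := by
      have h4 : g⁻¹ * (g * n i * g⁻¹) * g = g⁻¹ * (g * z i * g⁻¹) * g := by rw [h1, h2]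
      calc n i = g⁻¹ * (g * n i * g⁻¹) * g := by group
        _ = g⁻¹ * (g * z i * g⁻¹) * g := h4
        _ = z i := by group
    have h5 := E.en i
    rw [h3, E.ez] at h5
    have h6 := congrFun h5 i
    rw [Pi.single_eq_same, Pi.single_eq_same] at h6
    exact one_ne_zero (congrFun h6 0)
  · exact Or.inl h1
  · exact Or.inr h1

theorem U_z {U : Subgroup G} (hUS : U ≤ (S : Subgroup G)) (hSU : (S : Subgroup G) ≤ normalizer (U : Set G))
    (hab : ∀ u ∈ U, ∀ v ∈ U, u * v = v * u) {g : G} (hg : g ∈ U) (i : Fin k) : g * z i = z i * g :=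
  mul_inv_eq_iff_eq_mul.1 (C.perm_id hc hPH E hUS hSU hab hg i).2

end exa

section prod

omit [Finite G] in
theorem prod_mem {A : Subgroup G} {f : Fin k → G} (h : ∀ i, f i ∈ A) : (List.ofFn f).prod ∈ A := by
  refine A.list_prod_mem fun x hx => ?_
  obtain ⟨i, rfl⟩ := (List.mem_ofFn' f x).1 hx
  exact h i

omit [Finite G] in
theorem conj_prod (g : G) (f : Fin k → G) :
    g * (List.ofFn f).prod * g⁻¹ = (List.ofFn fun i => g * f i * g⁻¹).prod := by
  have h := map_list_prod (MulAut.conj g) (List.ofFn f)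
  rw [List.map_ofFn] at h
  exact h

omit [Finite G] in
theorem prod_perm {f : Fin k → G} (hf : ∀ i j, f i * f j = f j * f i) (σ : Equiv.Perm (Fin k)) :
    (List.ofFn fun i => f (σ i)).prod = (List.ofFn f).prod := by
  refine (Equiv.Perm.ofFn_comp_perm σ f).prod_eq' ?_
  rw [List.pairwise_ofFn]
  intro i j _
  exact hf _ _

include C in
theorem e_prod {f : Fin k → G} (hf : ∀ i, f i ∈ zl (S : Subgroup G) P) :
    e (List.ofFn f).prod = ∑ i, e (f i) := by
  have key : ∀ l : List G, (∀ x ∈ l, x ∈ zl (S : Subgroup G) P) → e l.prod = (l.map e).sum := by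
    intro l
    induction l with
    | nil => intro _; simp [C.e_one]
    | cons a l ih =>
      intro h
      have h1 : ∀ x ∈ l, x ∈ zl (S : Subgroup G) P := fun x hx => h x (List.mem_cons_of_mem a hx)
      rw [List.prod_cons, C.mul a (h a List.mem_cons_self) _ (Subgroup.list_prod_mem _ h1), ih h1,
        List.map_cons, List.sum_cons]
  rw [key _ fun x hx => by
    obtain ⟨i, rfl⟩ := (List.mem_ofFn' f x).1 hx
    exact hf i, List.map_ofFn, List.sum_ofFn]
  rfl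

end prod

section hyp

variable [CharP F 2] (hc : IsCharacteristicTwoType G) (hPH : IsParS (S : Subgroup G) P)
variable {z n s : Fin k → G} {w : G} (E : Exa (S : Subgroup G) P D e z n s w)
include hc hPH C E

/-- the coordinates of `e` -/
theorem e_e : e (List.ofFn z).prod = fun _ => ![1, 0] := by
  rw [C.e_prod E.zV]
  have h1 : ∀ i, e (z i) = Pi.single i ((fun _ => ![1, 0] : Fin k → Fin 2 → F) i) := fun i => E.ez i
  rw [Finset.sum_congr rfl fun i _ => h1 i]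
  exact Finset.univ_sum_single _

theorem ee_V₀ : (List.ofFn z).prod ∈ closure (Set.range z ∪ Set.range n) :=
  prod_mem fun i => subset_closure (Or.inl ⟨i, rfl⟩)

theorem ee_V : (List.ofFn z).prod ∈ zl (S : Subgroup G) P := prod_mem E.zV

/-- `e ∈ Z` -/
theorem ee_Z : (List.ofFn z).prod ∈ zc (S : Subgroup G) := by
  have hV := C.ee_V hc hPH E
  refine mem_zc.2 ⟨IsParS.zl_le_S hc hPH hV, fun g hg => ?_, by rw [pow_two]; exact sqV hc hPH _ hV⟩
  obtain ⟨σ, hσ⟩ := C.perm_z hc hPH E hg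
  rw [← mul_inv_eq_iff_eq_mul, conj_prod]
  have h1 : (fun i => g * z i * g⁻¹) = fun i => z (σ i) := funext hσ
  rw [h1]
  exact prod_perm (fun i j => abV hc hPH _ (E.zV i) _ (E.zV j)) σ

omit E in
/-- the second coordinates vanish on `Z` -/
theorem e_Z {x : G} (hx : x ∈ zc (S : Subgroup G)) (i : Fin k) : e x i 1 = 0 := by
  obtain ⟨t, htS, h1, -⟩ := C.unip i
  have h3 := h1 x (zc_le_zl _ _ hx) i
  have h4 : t * x * t⁻¹ = x := by
    rw [(mem_zc.1 hx).2.1 t htS, mul_inv_cancel_right]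
  rw [h4, Pi.mulSingle_eq_same] at h3
  change e x i = ap (up 1) (e x i) at h3
  rw [ap_up'] at h3
  have h5 : e x i 0 = e x i 0 + 1 * e x i 1 := congrFun h3 0
  rw [one_mul] at h5
  exact left_eq_add.1 h5

omit E in
/-- `Z ∩ D ≤ C(P)` -/
theorem DZ {x : G} (hx : x ∈ zc (S : Subgroup G)) (hD : x ∈ D) : x ∈ centralizer (P : Set G) := by
  have h1 : P ≤ centralizer ({x} : Set G) := by
    refine C.gen _ (fun g hg => ?_) fun h _ hhD _ _ => ?_
    · exact mem_centralizer_singleton_iff.2 ((mem_zc.1 hx).2.1 g hg)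
    · exact mem_centralizer_singleton_iff.2 (mem_centralizer_iff.1 hhD x hD).symm
  rw [mem_centralizer_iff]
  intro g hg
  exact mem_centralizer_singleton_iff.1 (h1 hg)

theorem Zor {x : G} (hx : x ∈ zc (S : Subgroup G)) :
    x ∈ centralizer (P : Set G) ∨ (List.ofFn z).prod * x ∈ centralizer (P : Set G) := by
  have hxV : x ∈ zl (S : Subgroup G) P := zc_le_zl _ _ hx
  have h1 : ∀ i j, e x i = 0 → e x j = 0 := by
    intro i j h
    obtain ⟨g, hg, hgv⟩ := C.trans i j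
    have h4 : g * x * g⁻¹ = x := by
      rw [(mem_zc.1 hx).2.1 g hg, mul_inv_cancel_right]
    have h5 := (hgv x hxV).2 h
    rwa [h4] at h5
  by_cases h : ∀ i, e x i = 0
  · left
    exact C.DZ hc hPH hx ((C.ker x hxV).1 (funext h))
  · right
    push Not at h
    obtain ⟨i, hi⟩ := h
    refine C.DZ hc hPH (mul_mem (C.ee_Z hc hPH E) hx) ?_
    rw [← C.ker _ (mul_mem (C.ee_V hc hPH E) hxV), C.mul _ (C.ee_V hc hPH E) _ hxV, C.e_e hc hPH E]
    funext j
    have hj : e x j ≠ 0 := fun h0 => hi (h1 j i h0)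
    have h2 := C.e_Z hc hPH hx j
    have h3 : e x j 0 = 1 := C.eq_one fun h0 => hj (by funext l; fin_cases l; exacts [h0, h2])
    have h4 : (1 : F) + 1 = 0 := CharTwo.add_self_eq_zero 1
    funext l
    fin_cases l
    · change (1 : F) + e x j 0 = 0
      rw [h3, h4]
    · change (0 : F) + e x j 1 = 0
      rw [h2, add_zero]

theorem cov {v : G} (hv : v ∈ zl (S : Subgroup G) P) : ∃ x ∈ closure (Set.range z ∪ Set.range n),
    ∃ ε ∈ zc (S : Subgroup G) ⊓ centralizer (P : Set G), v = x * ε := by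
  have hVS : zl (S : Subgroup G) P ≤ (S : Subgroup G) := IsParS.zl_le_S hc hPH
  have hP : P ≤ normalizer (closure (Set.range z ∪ Set.range n) : Set G) := by
    intro g hg
    rw [mem_normalizer_iff]
    intro x
    refine ⟨fun hx => C.conj_V₀ hc hPH E hg hx, fun hx => ?_⟩
    have h1 := C.conj_V₀ hc hPH E (inv_mem hg) hx
    have e1 : g⁻¹ * (g * x * g⁻¹) * g⁻¹⁻¹ = x := by group
    rwa [e1] at h1
  have hP' : P ≤ normalizer ((zc (S : Subgroup G) ⊓ centralizer (P : Set G) : Subgroup G) : Set G) :=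
    RTools.le_normalizer_of_comm (comm_symm inf_le_right)
  have h1 : zl (S : Subgroup G) P ≤ closure (Set.range z ∪ Set.range n) ⊔
      (zc (S : Subgroup G) ⊓ centralizer (P : Set G)) := by
    refine zl_le (fun x hx => ?_) (RTools.le_normalizer_sup hP hP')
    rcases C.Zor hc hPH E hx with h | h
    · exact (le_sup_right : zc (S : Subgroup G) ⊓ centralizer (P : Set G) ≤ _) ⟨hx, h⟩
    · have h2 := (le_sup_left : closure (Set.range z ∪ Set.range n) ≤ closure (Set.range z ∪ Set.range n) ⊔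
        (zc (S : Subgroup G) ⊓ centralizer (P : Set G))) (C.ee_V₀ hc hPH E)
      have h3 := (le_sup_right : zc (S : Subgroup G) ⊓ centralizer (P : Set G) ≤
        closure (Set.range z ∪ Set.range n) ⊔ (zc (S : Subgroup G) ⊓ centralizer (P : Set G)))
          ⟨mul_mem (C.ee_Z hc hPH E) hx, h⟩
      have h4 := mul_mem (inv_mem h2) h3
      rwa [inv_mul_cancel_left] at h4
  have h2 : zc (S : Subgroup G) ⊓ centralizer (P : Set G) ≤
      normalizer (closure (Set.range z ∪ Set.range n) : Set G) :=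
    (inf_le_left.trans ((zc_le _).trans hPH.le)).trans hP
  have h3 : v ∈ ((closure (Set.range z ∪ Set.range n) : Set G) *
      ((zc (S : Subgroup G) ⊓ centralizer (P : Set G) : Subgroup G) : Set G)) := by
    rw [← coe_mul_of_right_le_normalizer_left _ _ h2]
    exact h1 hv
  obtain ⟨x, hx, ε, hε, rfl⟩ := Set.mem_mul.1 h3
  exact ⟨x, hx, ε, hε, rfl⟩

theorem Cz {g : G} (hg : g ∈ P) : g ∈ CZ (S : Subgroup G) ↔ ∀ i, ∃ j, g * z i * g⁻¹ = z j := by
  obtain ⟨σ, hσ⟩ := C.perm_Nn hc hPH E hg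
  have hσz : ∀ i, g * z i * g⁻¹ ∈ Nn z n (σ i) := fun i => hσ i (z i) (Or.inl rfl)
  have hσV : ∀ i, g * z i * g⁻¹ ∈ zl (S : Subgroup G) P := fun i => con hg (E.zV i)
  constructor
  · intro h j
    have h1 : g * (List.ofFn z).prod * g⁻¹ = (List.ofFn z).prod := by
      rw [← mem_centralizer_iff.1 h _ (C.ee_Z hc hPH E), mul_inv_cancel_right]
    rw [conj_prod] at h1
    have h2 := C.e_prod hσV
    rw [h1, C.e_e hc hPH E] at h2
    have h3 := congrFun h2 (σ j)
    rw [Finset.sum_apply, Finset.sum_eq_single j ?_ (fun h => absurd (Finset.mem_univ j) h)] at h3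
    · refine ⟨σ j, C.eq_z hc hPH E (hσz j) ?_⟩
      rw [← h3]
      rfl
    · intro i _ hij
      obtain ⟨y, -, hy⟩ := C.e_Nn hc hPH E (hσz i)
      rw [hy, Pi.single_eq_of_ne]
      exact fun h0 => hij (σ.injective h0).symm
  · intro h
    have h1 : ∀ i, g * z i * g⁻¹ = z (σ i) := by
      intro i
      obtain ⟨j, hj⟩ := h i
      have h2 := hσz i
      rw [hj] at h2 ⊢
      rw [C.disj hc hPH E h2 (Or.inl rfl)]
    have h2 : g * (List.ofFn z).prod * g⁻¹ = (List.ofFn z).prod := by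
      rw [conj_prod, funext h1]
      exact prod_perm (fun i j => abV hc hPH _ (E.zV i) _ (E.zV j)) σ
    have h3 : g * (List.ofFn z).prod = (List.ofFn z).prod * g := mul_inv_eq_iff_eq_mul.1 h2
    refine mem_centralizer_iff.2 fun x hx => ?_
    rcases C.Zor hc hPH E hx with h4 | h4
    · exact (mem_centralizer_iff.1 h4 g hg).symm
    · have h5 := mem_centralizer_iff.1 h4 g hg
      have h6 : (List.ofFn z).prod * (x * g) = (List.ofFn z).prod * (g * x) := by
        calc (List.ofFn z).prod * (x * g) = (List.ofFn z).prod * x * g := by group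
          _ = (g * (List.ofFn z).prod) * x := by rw [← h5]; group
          _ = (List.ofFn z).prod * (g * x) := by rw [h3]; group
      exact mul_left_cancel h6

/-- `D ≤ Z ∩ C(P)` -/
theorem D_le {d : G} (hd : d ∈ D) : d ∈ zc (S : Subgroup G) ⊓ centralizer (P : Set G) := by
  obtain ⟨x, hx, ε, hε, h1⟩ := C.cov hc hPH E (C.DV hd)
  have hεV : ε ∈ zl (S : Subgroup G) P := zc_le_zl _ _ hε.1
  have hεD : ε ∈ D := by
    rw [← C.ker _ hεV]
    have h2 : ∀ i, e ε i = 0 := by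
      intro i
      have h3 := C.e_Z hc hPH hε.1 i
      have h4 := E.lw.act ε hεV i
      have h5 : w * ε * w⁻¹ = ε := by
        rw [mem_centralizer_iff.1 hε.2 w E.lw.mem, mul_inv_cancel_right]
      rw [h5] at h4
      rcases C.vec (e ε i) with h6 | h6 | h6 | h6
      · exact h6
      · exfalso
        rw [h6] at h4
        rw [ap_sw_z] at h4
        exact one_ne_zero (congrFun h4 0)
      · rw [h6] at h3; exact absurd h3 one_ne_zero
      · rw [h6] at h3; exact absurd h3 one_ne_zero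
    exact funext h2
  have h2 : x ∈ D := by
    have h3 : x = d * ε⁻¹ := by rw [h1]; group
    rw [h3]
    exact mul_mem hd (inv_mem hεD)
  rw [h1, C.V₀_inf hc hPH E hx h2, one_mul]
  exact hε

omit E in
/-- **`HypK`.** -/
theorem exists_hypK (Da : DataLow (S : Subgroup G)) (hPA : PairA (S : Subgroup G) P H)
    (hmin : ∀ H₁ : Subgroup G, IsLong (S : Subgroup G) H₁ → H₁ ≤ H → H₁ ≠ H →
      zl (S : Subgroup G) P ≤ centralizer (zl (S : Subgroup G) H₁ : Set G)) :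
    ∃ (z n : Fin k → G) (e w : G), HypK S P H z n e w := by
  obtain ⟨z, n, s, w, E⟩ := C.exists_exa hc hPH
  have hUS : zl (S : Subgroup G) H ≤ (S : Subgroup G) := IsLong.zl_le_S hc hPA.long
  have hSU : (S : Subgroup G) ≤ normalizer (zl (S : Subgroup G) H : Set G) :=
    hPA.long.loc.le.trans (le_normalizer_zl _ _)
  have hab : ∀ u ∈ zl (S : Subgroup G) H, ∀ v ∈ zl (S : Subgroup G) H, u * v = v * u := fun u hu v hv =>
    mem_centralizer_iff.1 ((zl_abel hc S hPA.long.loc).1 hv) u hu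
  refine ⟨z, n, _, w, hc, Da, hPH, hPA.long, hPA.ne, hmin, E.zV, E.nV, fun i h => ?_, fun i h => ?_,
    fun i j x => C.disj hc hPH E, fun v => C.cov hc hPH E, rfl, C.ee_Z hc hPH E, fun x => C.Zor hc hPH E,
    fun p hp => C.perm_Nn hc hPH E hp, fun g hg i => ?_, C.trans_z hc hPH E, fun p => C.Cz hc hPH E,
    fun u hu i => C.U_n hc hPH E hUS hSU hab hu i, fun u hu i => C.U_z hc hPH E hUS hSU hab hu i,
    E.lw.mem, E.wz, E.wn⟩
  · have h5 := E.ez i
    rw [h, C.e_one] at h5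
    have h6 := congrFun h5 i
    rw [Pi.single_eq_same] at h6
    exact one_ne_zero (congrFun h6 0).symm
  · have h5 := E.ez i
    rw [← h, E.en] at h5
    have h6 := congrFun h5 i
    rw [Pi.single_eq_same, Pi.single_eq_same] at h6
    exact zero_ne_one (congrFun h6 0)
  · obtain ⟨σ, hσ⟩ := C.perm_z hc hPH E hg
    exact ⟨σ i, hσ i⟩

end hyp

end CrdK

/-- **`CrdK` from `NatK`.** -/
theorem crdK_of_natK [Finite G] {S : Sylow 2 G} {P D : Subgroup G} {F : Type} [Field F]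
    (hF : ∀ x : F, x = 0 ∨ x = 1)
    (M : NatK F (S : Subgroup G) P (zl (S : Subgroup G) P) D k) (hDV : D ≤ zl (S : Subgroup G) P) :
    CrdK F (S : Subgroup G) P D k M.e := by
  have hcon : ∀ {g v : G}, g ∈ P → v ∈ zl (S : Subgroup G) P → g * v * g⁻¹ ∈ zl (S : Subgroup G) P := fun hg hv =>
    (mem_normalizer_iff.1 (le_normalizer_zl _ _ hg) _).1 hv
  have ker' : ∀ g ∈ P, ∀ v ∈ zl (S : Subgroup G) P, M.e (g * v * g⁻¹) = 0 ↔ M.e v = 0 := by
    intro g hg v hv
    obtain ⟨σ, hσ⟩ := M.perm g hg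
    constructor
    · intro h
      funext i
      exact (hσ v hv i).1 (congrFun h _)
    · intro h
      funext i
      obtain ⟨j, rfl⟩ := σ.surjective i
      exact (hσ v hv j).2 (congrFun h j)
  refine ⟨hF, M.mul, M.surj, M.ker, hDV, ?_, fun A => ?_, ?_, M.perm, M.trans, M.line, ?_, ?_⟩
  · intro g hg
    rw [mem_normalizer_iff]
    intro x
    constructor
    · intro hx
      have hxW := hDV hx
      rw [← M.ker _ (hcon hg hxW), ker' g hg x hxW]
      exact (M.ker x hxW).2 hx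
    · intro hx
      have hxW : x ∈ zl (S : Subgroup G) P := (mem_normalizer_iff.1 (le_normalizer_zl _ _ hg) _).2 (hDV hx)
      rw [← M.ker x hxW, ← ker' g hg x hxW]
      exact (M.ker _ (hcon hg hxW)).2 hx
  · obtain ⟨g, hg, h1, h2⟩ := M.lift A
    exact ⟨g, hg, h1, mem_centralizer_iff.2 fun d hd => (h2 d hd).symm⟩
  · exact fun g hg h hh A hA => M.norm g hg h hh A hA
  · intro K h1 h2
    exact M.gen K h1 fun h hh A hA => h2 h hh (mem_centralizer_iff.2 fun d hd => (hA.2 d hd).symm) A hA.1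
  · intro i
    obtain ⟨t, ht, h1, h2⟩ := M.unip (Pi.single i 1)
    refine ⟨t, ht, ?_, mem_centralizer_iff.2 fun d hd => (h2 d hd).symm⟩
    have e1 : (Pi.mulSingle i (up 1) : Fin k → Matrix.SpecialLinearGroup (Fin 2) F) =
        fun j => up ((Pi.single i 1 : Fin k → F) j) := by
      funext j
      by_cases hj : j = i
      · subst hj
        rw [Pi.mulSingle_eq_same, Pi.single_eq_same]
      · rw [Pi.mulSingle_eq_of_ne hj, Pi.single_eq_of_ne hj, up_zero]
    rw [e1]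
    exact h1

/-- a minimal long `H` -/
theorem exists_min [Finite G] {S : Sylow 2 G} {P H : Subgroup G} (hPH : PairA (S : Subgroup G) P H) :
    ∃ H₁ ≤ H, PairA (S : Subgroup G) P H₁ ∧ ∀ H' : Subgroup G, IsLong (S : Subgroup G) H' → H' ≤ H₁ → H' ≠ H₁ →
      zl (S : Subgroup G) P ≤ centralizer (zl (S : Subgroup G) H' : Set G) := by
  let s : Set (Subgroup G) := {H' | H' ≤ H ∧ PairA (S : Subgroup G) P H'}
  obtain ⟨H₁, h1⟩ := (Set.toFinite s).exists_minimal ⟨H, le_rfl, hPH⟩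
  refine ⟨H₁, h1.prop.1, h1.prop.2, fun H' hL hle hne => ?_⟩
  by_contra hcon
  exact hne (le_antisymm hle (h1.le_of_le ⟨hle.trans h1.prop.1, ⟨hPH.par, hL, hcon⟩⟩ hle))

/-- **The plug**: `R ∩ (A)` with `V_P` of type `NatK F .. k`, `|F| = 2`, gives `HypK`; nothing about offenders. -/
theorem exists_hypK_of_natK [Finite G] {S : Sylow 2 G} {P H D : Subgroup G} {F : Type} [Field F] [CharP F 2]
    (hc : IsCharacteristicTwoType G) (Da : DataLow (S : Subgroup G)) (hPH : PairA (S : Subgroup G) P H)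
    (hF : ∀ x : F, x = 0 ∨ x = 1)
    (M : NatK F (S : Subgroup G) P (zl (S : Subgroup G) P) D k) (hDV : D ≤ zl (S : Subgroup G) P) :
    ∃ H₁ ≤ H, ∃ (z n : Fin k → G) (e w : G), HypK S P H₁ z n e w := by
  obtain ⟨H₁, h1, h2, h3⟩ := exists_min hPH
  exact ⟨H₁, h1, (crdK_of_natK hF M hDV).exists_hypK hc h2.par Da h2 h3⟩

end Cfsg.Agent.Omega.NOThreeL.RTools.Many
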